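import Groth.Agent.L06.DiagPow.Tensor
import Groth.Agent.L14.PPSmooth.Proj

/-!
The graded pieces of the diagonal of a formally smooth algebra over a field are separated by
semilinear functionals.
-/

namespace Groth.L06.DiagPow

open TensorProduct

universe u

theorem diag_separated (k A : Type u) [Field k] [CommRing A] [Algebra k A] [Algebra.FormallySmooth k A]
    (m : ℕ) (x : A ⊗[k] A) (hx : x ∈ KaehlerDifferential.ideal k A ^ m)
    (h : ∀ f, IsFunctional (KaehlerDifferential.ideal k A) (Algebra.TensorProduct.lmul' k (S := A)) m f →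
      f x = 0) :
    x ∈ KaehlerDifferential.ideal k A ^ (m + 1) := by
  set J := KaehlerDifferential.ideal k A
  haveI := Groth.L14.PPSmooth.projective_grI A k (Groth.L14.PPSmooth.isDiffSmooth_of_formallySmooth k A) m
  let gr := PP16.grI k A m
  let q : ↥((J ^ m).restrictScalars A) →ₗ[A] gr := Submodule.mkQ _
  have hq : q ⟨x, hx⟩ = 0 := by
    obtain ⟨s, hs⟩ := Module.projective_def.mp ‹Module.Projective A (PP16.grI k A m)›
    rw [← hs (q ⟨x, hx⟩)]
    suffices s (q ⟨x, hx⟩) = 0 by rw [this, map_zero]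
    ext i
    let φ : ↥((J ^ m).restrictScalars A) →ₗ[A] A := (Finsupp.lapply i ∘ₗ s) ∘ₗ q
    obtain ⟨f, hf⟩ := LinearMap.exists_extend
      (p := (J ^ m).restrictScalars k) (f := (φ.restrictScalars k :
        ↥((J ^ m).restrictScalars A) →ₗ[k] A))
    have hf' : ∀ y (hy : y ∈ J ^ m), f y = φ ⟨y, hy⟩ := fun y hy => LinearMap.congr_fun hf ⟨y, hy⟩
    have hk : ∀ y ∈ J ^ (m + 1), f y = 0 := by
      intro y hy
      have : q ⟨y, Ideal.pow_le_pow_right (Nat.le_succ m) hy⟩ = 0 :=
        (Submodule.Quotient.mk_eq_zero _).mpr hy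
      rw [hf' y (Ideal.pow_le_pow_right (Nat.le_succ m) hy)]
      show (Finsupp.lapply i ∘ₗ s) (q _) = 0
      rw [this, map_zero]
    have hlin : IsFunctional J (Algebra.TensorProduct.lmul' k (S := A)) m f := by
      refine ⟨fun c y hy => ?_, hk⟩
      set a := Algebra.TensorProduct.lmul' k (S := A) c
      have hd : c - a ⊗ₜ[k] (1 : A) ∈ J := by
        show c - a ⊗ₜ[k] (1 : A) ∈ RingHom.ker _
        rw [RingHom.mem_ker, map_sub, Algebra.TensorProduct.lmul'_apply_tmul, mul_one, sub_self]
      have h1 : c * y = a • y + (c - a ⊗ₜ[k] (1 : A)) * y := by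
        rw [Algebra.smul_def, Algebra.TensorProduct.algebraMap_apply, Algebra.algebraMap_self,
          RingHom.id_apply]
        ring
      have h2 : (c - a ⊗ₜ[k] (1 : A)) * y ∈ J ^ (m + 1) := by
        rw [pow_succ']; exact Ideal.mul_mem_mul hd hy
      have h3 : a • y ∈ J ^ m := Submodule.smul_of_tower_mem _ a hy
      rw [h1, map_add, hk _ h2, add_zero, hf' _ h3, hf' _ hy]
      exact map_smul φ a ⟨y, hy⟩
    have := h f hlin
    rw [hf' x hx] at this
    exact this
  exact ((Submodule.Quotient.mk_eq_zero _).mp hq :)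

end Groth.L06.DiagPow
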