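import Groth.Agent.L06.DiagPow.Grading
import Groth.Agent.L08.Diag.Inter
import Groth.Agent.L25.GeomIrred
import Groth.Agent.L01.NagataGlobal
import Groth.Agent.L03.GeomRegular
import Mathlib.RingTheory.Smooth.Basic

/-!
`A^{⊗ n}` for a smooth domain over an algebraically closed field, and the powers of its diagonal ideals.
-/

set_option linter.style.haveILetI false

attribute [-simp] PiTensorProduct.singleAlgHom_apply

namespace Groth.L06.DiagPow

open TensorProduct Groth.L08.Diag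

universe u

variable (k A : Type u) [Field k] [CommRing A] [Algebra k A]

theorem algHom_ext {n : ℕ} {S : Type*} [CommRing S] [Algebra k S]
    {f g : (⨂[k] _ : Fin n, A) →ₐ[k] S} (h : ∀ i a, f (sgl i a) = g (sgl i a)) : f = g :=
  AlgHom.ext fun x => mem_of_sgl (S := AlgHom.equalizer f g) h x

/-- `A^{⊗ (n+1)} → A ⊗ A^{⊗ n}`. -/
noncomputable def succHom (n : ℕ) : (⨂[k] _ : Fin (n + 1), A) →ₐ[k] A ⊗[k] (⨂[k] _ : Fin n, A) :=
  liftFactors (Fin.cons Algebra.TensorProduct.includeLeft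
    fun l => Algebra.TensorProduct.includeRight.comp (sgl l))

/-- `A ⊗ A^{⊗ n} → A^{⊗ (n+1)}`. -/
noncomputable def succInv (n : ℕ) : A ⊗[k] (⨂[k] _ : Fin n, A) →ₐ[k] ⨂[k] _ : Fin (n + 1), A :=
  Algebra.TensorProduct.productMap (sgl 0) (liftFactors fun l => sgl l.succ)

/-- `A^{⊗ (n+1)} ≅ A ⊗ A^{⊗ n}`. -/
noncomputable def succEquiv (n : ℕ) : (⨂[k] _ : Fin (n + 1), A) ≃ₐ[k] A ⊗[k] (⨂[k] _ : Fin n, A) :=
  AlgEquiv.ofAlgHom (succHom k A n) (succInv k A n)
    (Algebra.TensorProduct.ext (AlgHom.ext fun a => by simp [succHom, succInv])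
      (algHom_ext k A fun i a => by simp [succHom, succInv]))
    (algHom_ext k A fun i a => by
      refine Fin.cases ?_ (fun l => ?_) i <;> simp [succHom, succInv])

/-- `A^{⊗ 0} ≅ k`. -/
noncomputable def zeroEquiv : (⨂[k] _ : Fin 0, A) ≃ₐ[k] k :=
  AlgEquiv.ofAlgHom (liftFactors (S := k) fun l => l.elim0) (Algebra.ofId k _)
    (AlgHom.ext fun x => by simp) (algHom_ext k A fun i _ => i.elim0)

instance finiteType_pow [Algebra.FiniteType k A] :
    ∀ n, Algebra.FiniteType k (⨂[k] _ : Fin n, A)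
  | 0 => Algebra.FiniteType.equiv inferInstance (zeroEquiv k A).symm
  | n + 1 => by
    haveI := finiteType_pow n
    haveI : Algebra.FiniteType k (A ⊗[k] (⨂[k] _ : Fin n, A)) :=
      (inferInstance : Algebra.FiniteType k A).trans inferInstance
    exact Algebra.FiniteType.equiv inferInstance (succEquiv k A n).symm

theorem smooth_pow [Algebra.Smooth k A] : ∀ n, Algebra.Smooth k (⨂[k] _ : Fin n, A)
  | 0 => Algebra.Smooth.of_equiv (zeroEquiv k A).symm
  | n + 1 => by
    haveI := smooth_pow n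
    haveI : Algebra.Smooth k (A ⊗[k] (⨂[k] _ : Fin n, A)) := Algebra.Smooth.comp k A _
    exact Algebra.Smooth.of_equiv (succEquiv k A n).symm

theorem isDomain_pow [IsAlgClosed k] [IsDomain A] :
    ∀ n, IsDomain (⨂[k] _ : Fin n, A)
  | 0 => (zeroEquiv k A).injective.isDomain (zeroEquiv k A).toAlgHom.toRingHom
  | n + 1 => by
    haveI := isDomain_pow n
    haveI : IsDomain (A ⊗[k] (⨂[k] _ : Fin n, A)) := Groth.L25.GeomIrred.isDomain_tensorProduct
    exact (succEquiv k A n).injective.isDomain (succEquiv k A n).toAlgHom.toRingHom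

theorem isIntegrallyClosed_pow [IsAlgClosed k] [IsDomain A] [Algebra.Smooth k A] (n : ℕ) :
    IsIntegrallyClosed (⨂[k] _ : Fin n, A) := by
  haveI := smooth_pow k A n
  haveI := isDomain_pow k A n
  haveI := Groth.L03.GeomRegular.isRegularRing_of_smooth k (⨂[k] _ : Fin n, A)
  exact Groth.L01.NagataCriteria.isIntegrallyClosed_of_isRegularRing _

/-- The factors `0`, `1` paired off. -/
noncomputable def pairHom (m : ℕ) :
    (⨂[k] _ : Fin (m + 2), A) →ₐ[k] (A ⊗[k] A) ⊗[k] (⨂[k] _ : Fin m, A) :=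
  liftFactors (Fin.cons (Algebra.TensorProduct.includeLeft.comp Algebra.TensorProduct.includeLeft)
    (Fin.cons (Algebra.TensorProduct.includeLeft.comp Algebra.TensorProduct.includeRight)
      fun l => Algebra.TensorProduct.includeRight.comp (sgl l)))

/-- The inverse of `pairHom`. -/
noncomputable def pairInv (m : ℕ) :
    (A ⊗[k] A) ⊗[k] (⨂[k] _ : Fin m, A) →ₐ[k] ⨂[k] _ : Fin (m + 2), A :=
  Algebra.TensorProduct.productMap (Algebra.TensorProduct.productMap (sgl 0) (sgl 1))
    (liftFactors fun l => sgl l.succ.succ)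

theorem pairInv_pairHom (m : ℕ) (x : ⨂[k] _ : Fin (m + 2), A) :
    pairInv k A m (pairHom k A m x) = x := by
  refine AlgHom.congr_fun (φ₁ := (pairInv k A m).comp (pairHom k A m)) (φ₂ := AlgHom.id k _)
    (algHom_ext k A fun i a => ?_) x
  refine Fin.cases ?_ (fun l => Fin.cases ?_ (fun l' => ?_) l) i <;> simp [pairHom, pairInv]

theorem pairHom_pairInv (m : ℕ) (x : (A ⊗[k] A) ⊗[k] (⨂[k] _ : Fin m, A)) :
    pairHom k A m (pairInv k A m x) = x := by
  refine AlgHom.congr_fun (φ₁ := (pairHom k A m).comp (pairInv k A m)) (φ₂ := AlgHom.id k _)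
    (Algebra.TensorProduct.ext (Algebra.TensorProduct.ext (AlgHom.ext fun a => ?_)
      (AlgHom.ext fun a => ?_)) (algHom_ext k A fun i a => ?_)) x <;>
    simp [pairHom, pairInv]

theorem map_pairHom_diag (m : ℕ) :
    (diagI k A (0 : Fin (m + 2)) 1).map (pairHom k A m) =
      ext (k := k) (⨂[k] _ : Fin m, A) (KaehlerDifferential.ideal k A) := by
  rw [← diagI_comm (k := k) (A := A) (1 : Fin (m + 2)) 0, diagI, Ideal.map_span, ext,
    ← KaehlerDifferential.span_range_eq_ideal, Ideal.map_span, ← Set.range_comp, ← Set.range_comp]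
  congr 1
  refine congrArg Set.range (funext fun a => ?_)
  simp [pairHom, TensorProduct.sub_tmul]

/-- A diagonal ideal is prime and its powers are primary. -/
theorem mem_pow_of_mul_mem_zero_one [IsAlgClosed k] [IsDomain A] [Algebra.Smooth k A] (m : ℕ)
    {s x : ⨂[k] _ : Fin (m + 2), A} (hs : collapse k A 0 1 s ≠ 0) {l : ℕ}
    (h : s * x ∈ diagI k A (0 : Fin (m + 2)) 1 ^ l) : x ∈ diagI k A (0 : Fin (m + 2)) 1 ^ l := by
  haveI := isDomain_pow k A m
  haveI : IsDomain (A ⊗[k] (⨂[k] _ : Fin m, A)) := Groth.L25.GeomIrred.isDomain_tensorProduct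
  let Q := Algebra.TensorProduct.map (Algebra.TensorProduct.lmul' k (S := A))
    (AlgHom.id k (⨂[k] _ : Fin m, A))
  let ψ : A ⊗[k] (⨂[k] _ : Fin m, A) →ₐ[k] ⨂[k] _ : Fin (m + 2), A :=
    Algebra.TensorProduct.productMap (sgl 1) (liftFactors fun l => sgl l.succ.succ)
  have hψ : collapse k A (0 : Fin (m + 2)) 1 = ψ.comp (Q.comp (pairHom k A m)) := by
    refine algHom_ext k A fun i a => ?_
    refine Fin.cases ?_ (fun l => Fin.cases ?_ (fun l' => ?_) l) i <;>
      simp [collapse_sgl, pairHom, ψ, Q, Fin.succ_ne_zero]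
  have hQ : Q (pairHom k A m s) ≠ 0 := fun h0 => hs (by
    rw [hψ, AlgHom.comp_apply, AlgHom.comp_apply, h0, map_zero])
  have h1 : pairHom k A m s * pairHom k A m x ∈
      ext (k := k) (⨂[k] _ : Fin m, A) (KaehlerDifferential.ideal k A) ^ l := by
    rw [← map_mul, ← map_pairHom_diag, ← Ideal.map_pow]
    exact Ideal.mem_map_of_mem _ h
  have h2 := mem_pow_of_mul_mem (KaehlerDifferential.ideal k A)
    (Algebra.TensorProduct.lmul' k (S := A)) (fun n y hy => diag_separated k A n y hy) hQ l h1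
  have h3 := Ideal.mem_map_of_mem (pairInv k A m) h2
  rw [← map_pairHom_diag, ← Ideal.map_pow, Ideal.map_mapₐ, pairInv_pairHom] at h3
  rwa [show (pairInv k A m).comp (pairHom k A m) = AlgHom.id k _ from
    AlgHom.ext (pairInv_pairHom k A m), Ideal.map_idₐ] at h3

theorem mem_pow_of_mul_mem_diag [IsAlgClosed k] [IsDomain A] [Algebra.Smooth k A] {n : ℕ}
    {i j : Fin n} (hij : i ≠ j) {s x : ⨂[k] _ : Fin n, A} (hs : s ∉ diagI k A i j) {l : ℕ}
    (h : s * x ∈ diagI k A i j ^ l) : x ∈ diagI k A i j ^ l := by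
  obtain ⟨m, rfl⟩ : ∃ m, n = m + 2 := ⟨n - 2, by
    have := i.isLt; have := j.isLt; have := Fin.val_ne_of_ne hij; omega⟩
  let σ : Equiv.Perm (Fin (m + 2)) :=
    (Equiv.swap i 0).trans (Equiv.swap (Equiv.swap i 0 j) 1)
  have hj0 : Equiv.swap i 0 j ≠ 0 := fun e =>
    hij ((Equiv.swap i 0).injective (by rw [Equiv.swap_apply_left, e]))
  have hi : σ i = 0 := by
    simp only [σ, Equiv.trans_apply, Equiv.swap_apply_left]
    exact Equiv.swap_apply_of_ne_of_ne hj0.symm Fin.zero_ne_one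
  have hj : σ j = 1 := by simp [σ]
  let f := permHom k A σ
  have hmap : (diagI k A i j).map f = diagI k A (0 : Fin (m + 2)) 1 := by
    rw [diagI_map, hi, hj]
  have hmap' : (diagI k A (0 : Fin (m + 2)) 1).map (permHom k A σ.symm) = diagI k A i j := by
    rw [diagI_map, ← hi, ← hj, Equiv.symm_apply_apply, Equiv.symm_apply_apply]
  have hinv : ∀ y, permHom k A σ.symm (f y) = y := fun y => AlgHom.congr_fun
    (φ₁ := (permHom k A σ.symm).comp f) (φ₂ := AlgHom.id k _)
    (algHom_ext k A fun r a => by simp [f]) y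
  have hs' : collapse k A (0 : Fin (m + 2)) 1 (f s) ≠ 0 := by
    intro h0
    have h1 := sub_collapse_mem (k := k) (A := A) (0 : Fin (m + 2)) 1 (f s)
    rw [h0, sub_zero] at h1
    exact hs (hmap' ▸ hinv s ▸ Ideal.mem_map_of_mem (permHom k A σ.symm) h1)
  have h1 : f s * f x ∈ diagI k A (0 : Fin (m + 2)) 1 ^ l := by
    rw [← map_mul, ← hmap, ← Ideal.map_pow]
    exact Ideal.mem_map_of_mem _ h
  have h2 := Ideal.mem_map_of_mem (permHom k A σ.symm) (mem_pow_of_mul_mem_zero_one k A m hs' h1)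
  rwa [Ideal.map_pow, hmap', hinv] at h2

theorem isPrime_diag [IsAlgClosed k] [IsDomain A] [Algebra.Smooth k A] {n : ℕ} (i j : Fin n) :
    (diagI k A i j).IsPrime := by
  haveI := isDomain_pow k A n
  have : diagI k A i j = RingHom.ker (collapse k A i j) := by
    refine le_antisymm (diagI_le_ker _ fun a => ?_) fun x hx => ?_
    · rw [collapse_sgl, collapse_sgl, if_pos rfl]
      split_ifs <;> rfl
    · have := sub_collapse_mem (k := k) (A := A) i j x
      rwa [RingHom.mem_ker.mp hx, sub_zero] at this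
  rw [this]
  exact RingHom.ker_isPrime _

theorem sgl_ne [IsAlgClosed k] [IsDomain A] [Algebra.FiniteType k A] {a : A}
    (ha : a ∉ Set.range (algebraMap k A)) {n : ℕ} {l l' : Fin n} (hl : l ≠ l') :
    sgl (k := k) l a ≠ sgl l' a := by
  intro e
  obtain ⟨φ⟩ : Nonempty (A →ₐ[k] k) := by
    by_contra hn
    exact one_ne_zero (Groth.L25.GeomIrred.eq_zero_of_forall_algHom (k := k) (1 : A)
      fun φ => (hn ⟨φ⟩).elim)
  let f := liftFactors (k := k) (A := A) (S := A)
    (fun r : Fin n => if r = l then AlgHom.id k A else (Algebra.ofId k A).comp φ)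
  have := congrArg f e
  simp only [f, liftFactors_sgl, if_pos, if_neg hl.symm, AlgHom.coe_id, id_eq,
    AlgHom.comp_apply] at this
  exact ha ⟨φ a, this.symm⟩

end Groth.L06.DiagPow
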