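import Mathlib.RingTheory.TensorProduct.Basic
import Mathlib.RingTheory.TensorProduct.Free
import Mathlib.LinearAlgebra.TensorProduct.Basis
import Mathlib.LinearAlgebra.Basis.VectorSpace
import Mathlib.RingTheory.TensorProduct.Maps
import Mathlib.RingTheory.Ideal.Maps
import Mathlib.RingTheory.Ideal.BigOperators

/-!
Powers of an ideal after tensoring with an algebra over a field: if the graded pieces of `J` are
separated by semilinear functionals to `B = C/J`, the powers of the extended ideal are primary.
-/

namespace Groth.L06.DiagPow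

open TensorProduct

universe u

section

variable {k C B R : Type u} [Field k] [CommRing C] [Algebra k C] [CommRing B] [Algebra k B]
  [CommRing R] [Algebra k R] (J : Ideal C) (π : C →ₐ[k] B)

/-- The ideal generated by `J` in `C ⊗ R`. -/
noncomputable abbrev ext (R : Type u) [CommRing R] [Algebra k R] (J : Ideal C) : Ideal (C ⊗[k] R) :=
  J.map (Algebra.TensorProduct.includeLeft (R := k) (S := k) (A := C) (B := R))

/-- A semilinear functional on `J ^ m`, killing `J ^ (m + 1)`. -/
structure IsFunctional (m : ℕ) (f : C →ₗ[k] B) : Prop where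
  semilinear : ∀ c x, x ∈ J ^ m → f (c * x) = π c * f x
  kills : ∀ x ∈ J ^ (m + 1), f x = 0

theorem ext_pow (m : ℕ) : ext R J ^ m = ext (k := k) R (J ^ m) := (Ideal.map_pow _ _ _).symm

theorem rTensor_semilinear {m : ℕ} {f : C →ₗ[k] B} (hf : IsFunctional J π m f)
    {x : C ⊗[k] R} (hx : x ∈ ext R J ^ m) (t : C ⊗[k] R) :
    f.rTensor R (t * x) = Algebra.TensorProduct.map π (AlgHom.id k R) t * f.rTensor R x := by
  set Q := Algebra.TensorProduct.map π (AlgHom.id k R)
  rw [ext_pow] at hx
  induction hx using Submodule.span_induction generalizing t with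
  | mem x hx =>
    obtain ⟨j, hj, rfl⟩ := hx
    induction t using TensorProduct.induction_on with
    | zero => simp
    | tmul c r =>
      simp [Q, hf.semilinear c j hj]
    | add t t' ht ht' => rw [add_mul, map_add, ht, ht', map_add, add_mul]
  | zero => simp
  | add x y _ _ hx hy => rw [mul_add, map_add, hx, hy, map_add, mul_add]
  | smul a x _ hx =>
    rw [smul_eq_mul, ← mul_assoc, hx, hx a, map_mul, mul_assoc]

/-- The coordinate of an element of `C ⊗ R` along a functional on `R`. -/
noncomputable def coord (g : R →ₗ[k] k) : C ⊗[k] R →ₗ[k] C :=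
  (TensorProduct.rid k C).toLinearMap ∘ₗ g.lTensor C

@[simp] theorem coord_tmul (g : R →ₗ[k] k) (c : C) (r : R) : coord g (c ⊗ₜ r) = g r • c := rfl

theorem coord_mem {m : ℕ} (g : R →ₗ[k] k) {x : C ⊗[k] R} (hx : x ∈ ext R J ^ m) :
    coord g x ∈ J ^ m := by
  rw [ext_pow] at hx
  suffices ∀ t, coord g (t * x) ∈ J ^ m by simpa using this 1
  induction hx using Submodule.span_induction with
  | mem x hx =>
    obtain ⟨j, hj, rfl⟩ := hx
    intro t
    induction t using TensorProduct.induction_on with
    | zero => simp
    | tmul c r =>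
      simp only [Algebra.TensorProduct.includeLeft_apply, Algebra.TensorProduct.tmul_mul_tmul,
        mul_one, coord_tmul]
      exact Submodule.smul_of_tower_mem _ _ (Ideal.mul_mem_left _ c hj)
    | add t t' ht ht' => rw [add_mul, map_add]; exact Ideal.add_mem _ ht ht'
  | zero => intro t; simp
  | add x y _ _ hx hy => intro t; rw [mul_add, map_add]; exact Ideal.add_mem _ (hx t) (hy t)
  | smul a x _ hx => intro t; rw [smul_eq_mul, ← mul_assoc]; exact hx _

theorem mem_ext_pow_of_coord {m : ℕ} {x : C ⊗[k] R}
    (h : ∀ g : R →ₗ[k] k, coord g x ∈ J ^ m) : x ∈ ext R J ^ m := by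
  classical
  let b := Module.Free.chooseBasis k R
  obtain ⟨c, hc⟩ : ∃ c : Module.Free.ChooseBasisIndex k R →₀ C,
      x = c.sum fun i v => v ⊗ₜ[k] b i := by
    refine ⟨TensorProduct.equivFinsuppOfBasisRight b x, ?_⟩
    rw [← TensorProduct.equivFinsuppOfBasisRight_symm_apply, LinearEquiv.symm_apply_apply]
  have hi : ∀ i, coord (b.coord i) x = c i := by
    intro i
    rw [hc, map_finsuppSum, Finsupp.sum]
    simp only [coord_tmul, Module.Basis.coord_apply, Module.Basis.repr_self]
    rw [Finset.sum_eq_single i (fun j _ hj => by simp [hj])]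
    · simp
    · intro hi; simp [Finsupp.notMem_support_iff.mp hi]
  rw [hc, ext_pow]
  refine Ideal.sum_mem _ fun i _ => ?_
  have : c i ⊗ₜ[k] b i = (1 : C) ⊗ₜ[k] b i *
      Algebra.TensorProduct.includeLeft (R := k) (S := k) (B := R) (c i) := by simp
  show c i ⊗ₜ[k] b i ∈ _
  rw [this]
  exact Ideal.mul_mem_left _ _ (Ideal.mem_map_of_mem _ (hi i ▸ h (b.coord i)))

theorem mem_pow_of_mul_mem [IsDomain (B ⊗[k] R)]
    (hsep : ∀ m, ∀ x ∈ J ^ m, (∀ f, IsFunctional J π m f → f x = 0) → x ∈ J ^ (m + 1))
    {s x : C ⊗[k] R} (hs : Algebra.TensorProduct.map π (AlgHom.id k R) s ≠ 0) :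
    ∀ (l : ℕ), s * x ∈ ext R J ^ l → x ∈ ext R J ^ l := by
  intro l
  induction l with
  | zero => simp
  | succ m ih =>
    intro hsx
    have hxm : x ∈ ext R J ^ m := ih (Ideal.pow_le_pow_right (Nat.le_succ m) hsx)
    refine mem_ext_pow_of_coord J fun g => hsep m _ (coord_mem J g hxm) fun f hf => ?_
    have h0 : f.rTensor R (s * x) = 0 := by
      suffices ∀ y ∈ ext (k := k) R J ^ (m + 1), f.rTensor R y = 0 from this _ hsx
      intro y hy
      rw [ext_pow] at hy
      suffices ∀ t, f.rTensor R (t * y) = 0 by simpa using this 1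
      induction hy using Submodule.span_induction with
      | mem y hy =>
        obtain ⟨j, hj, rfl⟩ := hy
        intro t
        induction t using TensorProduct.induction_on with
        | zero => simp
        | tmul c r => simp [hf.kills _ (Ideal.mul_mem_left _ c hj)]
        | add t t' ht ht' => rw [add_mul, map_add, ht, ht', add_zero]
      | zero => intro t; simp
      | add y z _ _ hy hz => intro t; rw [mul_add, map_add, hy, hz, add_zero]
      | smul a y _ hy => intro t; rw [smul_eq_mul, ← mul_assoc, hy]
    rw [rTensor_semilinear J π hf hxm] at h0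
    have h1 := (mul_eq_zero.mp h0).resolve_left hs
    have : ∀ y : C ⊗[k] R, f (coord g y) = coord g (f.rTensor R y) := by
      intro y
      induction y using TensorProduct.induction_on with
      | zero => simp
      | tmul c r => simp
      | add y z hy hz => simp [hy, hz]
    rw [this, h1, map_zero]

end

end Groth.L06.DiagPow
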